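import Mathlib
import Cfsg.Prelude.Def_GeometricClasses
import Cfsg.Agent.Lib.Helper15.AschSlotNormLib
import Cfsg.Agent.Lib.Helper15.AschUPure

/-!
# Project BHRSP (helper94), module [E-SP8-TW3] (sub-sheet by helper41): definitions and the `PT` kit

`|F| = 3`: the tensor-induced `Sp_2(3) ≀ S_3` in `Sp_8(3)` normalises `Q_8 ⊗ Q_8 ⊗ Q_8 ≅ 2_-^(1+6)`.

Model: index type `I8 = Fin 3 → Fin 2`, `PT q` (helper15) the pure tensor `q 0 ⊗ q 1 ⊗ q 2` of three `2 × 2` matrices,
`Q8set = {±1, ±A2, ±B2, ±A2 B2}`, `R8set = {PT q | q i ∈ Q8set}` (128 matrices), `R0 = ` the subgroup of `GL I8 F`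
generated by (in fact equal to, for `|F| = 3`) the units with matrix in `R8set`.
`E : Fin 4 → M_2(F)`, `E = ![1, A2, B2, A2 * B2]`, and `PE v = PT (E ∘ v)` for `v : Fin 3 → Fin 4`.
-/

set_option autoImplicit false

namespace Cfsg.Agent.Lib.Helper41.TW3

open Cfsg Cfsg.Geo Cfsg.Agent.Lib.Helper15.AschSlotNorm Cfsg.Agent.Lib.Helper15.AschUPure
open scoped MatrixGroups Matrix

variable {F : Type*} [Field F]

/-- the index type of the tensor cube -/
abbrev I8 : Type := Fin 3 → Fin 2

/-- generators of `Q_8` in `SL_2(3)` (`B2 * B2 = -1` needs characteristic 3) -/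
def A2 : Matrix (Fin 2) (Fin 2) F := !![0, 1; -1, 0]
def B2 : Matrix (Fin 2) (Fin 2) F := !![1, 1; 1, -1]

/-- the four coset representatives of `Q_8 / {±1}` -/
def E : Fin 4 → Matrix (Fin 2) (Fin 2) F := ![1, A2, B2, A2 * B2]

/-- the 8 matrices `±1, ±A2, ±B2, ±A2 B2` -/
def Q8set : Set (Matrix (Fin 2) (Fin 2) F) :=
  {m | ∃ a : Fin 4, m = E a ∨ m = -E a}

/-- the 128 matrices `q 0 ⊗ q 1 ⊗ q 2`, `q i ∈ Q8set` -/
def R8set : Set (Matrix I8 I8 F) :=
  {M | ∃ q : Fin 3 → Matrix (Fin 2) (Fin 2) F, (∀ i, q i ∈ Q8set) ∧ M = PT q}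

/-- `E (v 0) ⊗ E (v 1) ⊗ E (v 2)` -/
def PE (v : Fin 3 → Fin 4) : Matrix I8 I8 F := PT (fun i => E (v i))

/-- the subgroup generated by the units with matrix in `R8set` -/
def R0 : Subgroup (GL I8 F) := Subgroup.closure {g | (g : Matrix I8 I8 F) ∈ R8set}

/-- Klein four-group addition on `Fin 4` (`0` neutral, `a + a = 0`, `1 + 2 = 3`, ...): bitwise xor -/
def kadd (a b : Fin 4) : Fin 4 := ⟨Nat.xor a.1 b.1 % 4, Nat.mod_lt _ (by norm_num)⟩

/-- the sign `c a b = -1` iff `a, b` are distinct and non-zero (`E a * E b = c a b • (E b * E a)`) -/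
def csgn (a b : Fin 4) : F := if a = 0 ∨ b = 0 ∨ a = b then 1 else -1

/-- the quadratic form: number of non-zero coordinates mod 2 -/
def qf (v : Fin 3 → Fin 4) : Bool := decide ((Finset.univ.filter (fun i => v i ≠ 0)).card % 2 = 1)

/-! ## general `PT` kit -/

variable {k d : ℕ}

theorem PT_update_smul (q : Fin k → Matrix (Fin d) (Fin d) F) (i : Fin k) (c : F) (a : Matrix (Fin d) (Fin d) F) :
    PT (Function.update q i (c • a)) = c • PT (Function.update q i a) := by
  ext x y
  simp only [PT, Matrix.smul_apply, smul_eq_mul]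
  rw [← Finset.mul_prod_erase Finset.univ _ (Finset.mem_univ i),
    ← Finset.mul_prod_erase Finset.univ (fun j => Function.update q i a j (x j) (y j)) (Finset.mem_univ i)]
  simp only [Function.update_self, Matrix.smul_apply, smul_eq_mul]
  rw [mul_assoc]
  congr 2
  refine Finset.prod_congr rfl (fun j hj => ?_)
  rw [Function.update_of_ne (Finset.ne_of_mem_erase hj), Function.update_of_ne (Finset.ne_of_mem_erase hj)]

theorem PT_update_add (q : Fin k → Matrix (Fin d) (Fin d) F) (i : Fin k) (a b : Matrix (Fin d) (Fin d) F) :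
    PT (Function.update q i (a + b)) = PT (Function.update q i a) + PT (Function.update q i b) := by
  ext x y
  simp only [PT, Matrix.add_apply]
  rw [← Finset.mul_prod_erase Finset.univ _ (Finset.mem_univ i),
    ← Finset.mul_prod_erase Finset.univ (fun j => Function.update q i a j (x j) (y j)) (Finset.mem_univ i),
    ← Finset.mul_prod_erase Finset.univ (fun j => Function.update q i b j (x j) (y j)) (Finset.mem_univ i)]
  simp only [Function.update_self, Matrix.add_apply]
  rw [add_mul]
  congr 1 <;>
  · congr 1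
    refine Finset.prod_congr rfl (fun j hj => ?_)
    rw [Function.update_of_ne (Finset.ne_of_mem_erase hj), Function.update_of_ne (Finset.ne_of_mem_erase hj)]

/-- scalars come out of a pure tensor -/
theorem PT_smul (c : Fin k → F) (q : Fin k → Matrix (Fin d) (Fin d) F) :
    PT (fun i => c i • q i) = (∏ i, c i) • PT q := by
  ext x y
  simp only [PT, Matrix.smul_apply, smul_eq_mul, Finset.prod_mul_distrib]

theorem PT_trace (q : Fin k → Matrix (Fin d) (Fin d) F) : (PT q).trace = ∏ i, (q i).trace := by
  simp only [Matrix.trace, Matrix.diag_apply, PT]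
  rw [Finset.prod_univ_sum]
  simp only [Fintype.piFinset_univ]

theorem PT_ne_zero {q : Fin k → Matrix (Fin d) (Fin d) F} (h : ∀ i, q i ≠ 0) : PT q ≠ 0 := by
  have hx : ∀ i, ∃ a b, q i a b ≠ 0 := by
    intro i
    by_contra hcon
    push Not at hcon
    exact h i (by ext a b; simpa using hcon a b)
  choose a b hab using hx
  intro h0
  have := congrFun (congrFun h0 a) b
  simp only [PT, Matrix.zero_apply] at this
  exact (Finset.prod_ne_zero_iff.mpr (fun i _ => hab i)) this

/-- cancellation of one factor of a pure tensor -/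
theorem PT_update_cancel {q : Fin k → Matrix (Fin d) (Fin d) F} (i : Fin k) (hq : ∀ j, j ≠ i → q j ≠ 0)
    {a b : Matrix (Fin d) (Fin d) F} (h : PT (Function.update q i a) = PT (Function.update q i b)) : a = b := by
  classical
  ext s t
  have hx : ∀ j, ∃ s' t', j ≠ i → q j s' t' ≠ 0 := by
    intro j
    by_cases hj : j = i
    · exact ⟨s, t, fun h => absurd hj h⟩
    · have : ∃ s' t', q j s' t' ≠ 0 := by
        by_contra hcon
        push Not at hcon
        exact hq j hj (by ext s' t'; simpa using hcon s' t')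
      obtain ⟨s', t', hst⟩ := this
      exact ⟨s', t', fun _ => hst⟩
  choose s' t' hst using hx
  have h1 := congrFun (congrFun h (Function.update s' i s)) (Function.update t' i t)
  simp only [PT] at h1
  rw [← Finset.mul_prod_erase Finset.univ _ (Finset.mem_univ i),
    ← Finset.mul_prod_erase Finset.univ
      (fun j => Function.update q i b j (Function.update s' i s j) (Function.update t' i t j)) (Finset.mem_univ i)] at h1
  simp only [Function.update_self] at h1
  have h2 : ∏ j ∈ Finset.univ.erase i, Function.update q i a j (Function.update s' i s j) (Function.update t' i t j) =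
      ∏ j ∈ Finset.univ.erase i, q j (s' j) (t' j) := by
    refine Finset.prod_congr rfl (fun j hj => ?_)
    have hji := Finset.ne_of_mem_erase hj
    rw [Function.update_of_ne hji, Function.update_of_ne hji, Function.update_of_ne hji]
  have h3 : ∏ j ∈ Finset.univ.erase i, Function.update q i b j (Function.update s' i s j) (Function.update t' i t j) =
      ∏ j ∈ Finset.univ.erase i, q j (s' j) (t' j) := by
    refine Finset.prod_congr rfl (fun j hj => ?_)
    have hji := Finset.ne_of_mem_erase hj
    rw [Function.update_of_ne hji, Function.update_of_ne hji, Function.update_of_ne hji]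
  rw [h2, h3] at h1
  have h4 : ∏ j ∈ Finset.univ.erase i, q j (s' j) (t' j) ≠ 0 :=
    Finset.prod_ne_zero_iff.mpr (fun j hj => hst j (Finset.ne_of_mem_erase hj))
  exact mul_right_cancel₀ h4 h1

end Cfsg.Agent.Lib.Helper41.TW3
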