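import Mathlib
import Cfsg.Prelude.Def_GeometricClasses
import Cfsg.Agent.Lib.Helper41.TW3.Defs

/-!
# Project BHRSP, module [E-SP8-TW3] (sub-sheet helper41): the `F_3` kit and the `Q_8` kit
-/

set_option autoImplicit false

namespace Cfsg.Agent.Lib.Helper41.TW3

open Cfsg Cfsg.Geo Cfsg.Agent.Lib.Helper15.AschSlotNorm Cfsg.Agent.Lib.Helper15.AschUPure
open scoped MatrixGroups Matrix

variable {F : Type*} [Field F]

/-! ## the field with three elements -/

theorem three_eq_zero [Fintype F] (hq : Fintype.card F = 3) : (3 : F) = 0 := by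
  have h := Nat.cast_card_eq_zero F
  rw [hq] at h
  exact_mod_cast h

theorem two_eq_neg_one (h3 : (3 : F) = 0) : (2 : F) = -1 := by
  linear_combination h3

theorem two_ne_zero' (h3 : (3 : F) = 0) : (2 : F) ≠ 0 := by
  intro h2
  have : (1 : F) = 0 := by linear_combination h3 - h2
  exact one_ne_zero this

theorem one_ne_neg_one (h3 : (3 : F) = 0) : (1 : F) ≠ -1 := by
  intro h
  have : (2 : F) = 0 := by linear_combination h
  exact two_ne_zero' h3 this

theorem eq_zero_or_one_or_neg_one [Fintype F] (hq : Fintype.card F = 3) (x : F) : x = 0 ∨ x = 1 ∨ x = -1 := by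
  classical
  have h3 := three_eq_zero hq
  by_contra hcon
  push Not at hcon
  obtain ⟨h0, h1, h2⟩ := hcon
  have hne : (1 : F) ≠ -1 := one_ne_neg_one h3
  have h01 : (0 : F) ≠ 1 := zero_ne_one
  have h0n : (0 : F) ≠ -1 := by
    intro h
    have : (1 : F) = 0 := by linear_combination h
    exact one_ne_zero this
  have hcard : ({0, 1, -1, x} : Finset F).card = 4 := by
    rw [Finset.card_insert_of_notMem, Finset.card_insert_of_notMem, Finset.card_insert_of_notMem,
      Finset.card_singleton]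
    · simp only [Finset.mem_singleton]; exact fun h => h2 h.symm
    · simp only [Finset.mem_insert, Finset.mem_singleton, not_or]; exact ⟨hne, fun h => h1 h.symm⟩
    · simp only [Finset.mem_insert, Finset.mem_singleton, not_or]; exact ⟨h01, h0n, fun h => h0 h.symm⟩
  have := Finset.card_le_univ ({0, 1, -1, x} : Finset F)
  omega

/-! ## `Q_8` -/

theorem A2_mul_A2 : (A2 : Matrix (Fin 2) (Fin 2) F) * A2 = -1 := by
  unfold A2
  ext i j
  fin_cases i <;> fin_cases j <;> simp [Matrix.mul_apply, Fin.sum_univ_two]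

theorem B2_mul_B2 (h3 : (3 : F) = 0) : (B2 : Matrix (Fin 2) (Fin 2) F) * B2 = -1 := by
  unfold B2
  ext i j
  fin_cases i <;> fin_cases j <;> simp [Matrix.mul_apply, Fin.sum_univ_two] <;> linear_combination h3

theorem B2_mul_A2 : (B2 : Matrix (Fin 2) (Fin 2) F) * A2 = -(A2 * B2) := by
  unfold A2 B2
  ext i j
  fin_cases i <;> fin_cases j <;> simp [Matrix.mul_apply, Fin.sum_univ_two]

theorem E_zero : (E 0 : Matrix (Fin 2) (Fin 2) F) = 1 := rfl
theorem E_one : (E 1 : Matrix (Fin 2) (Fin 2) F) = A2 := rfl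
theorem E_two : (E 2 : Matrix (Fin 2) (Fin 2) F) = B2 := rfl
theorem E_three : (E 3 : Matrix (Fin 2) (Fin 2) F) = A2 * B2 := rfl

/-- the structure constants of `Q_8` on the coset representatives -/
def esgn (a b : Fin 4) : F :=
  if a = 0 ∨ b = 0 then 1
  else if a = b then -1
  else if (a = 1 ∧ b = 2) ∨ (a = 2 ∧ b = 3) ∨ (a = 3 ∧ b = 1) then 1 else -1

theorem esgn_eq (a b : Fin 4) : esgn (F := F) a b = 1 ∨ esgn (F := F) a b = -1 := by
  unfold esgn
  split_ifs <;> simp

/-- multiplication table of the coset representatives -/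
theorem E_mul_E (h3 : (3 : F) = 0) (a b : Fin 4) :
    (E a : Matrix (Fin 2) (Fin 2) F) * E b = esgn (F := F) a b • E (kadd a b) := by
  fin_cases a <;> fin_cases b <;>
  · ext i j
    fin_cases i <;> fin_cases j <;>
    · simp [E, A2, B2, esgn, kadd, Matrix.mul_apply, Fin.sum_univ_two]
      try first
        | ring1
        | linear_combination h3
        | linear_combination -h3
        | linear_combination (2 : F) * h3
        | linear_combination (-2 : F) * h3

theorem kadd_zero (a : Fin 4) : kadd a 0 = a := by revert a; decide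
theorem zero_kadd (a : Fin 4) : kadd 0 a = a := by revert a; decide
theorem kadd_self (a : Fin 4) : kadd a a = 0 := by revert a; decide
theorem kadd_comm (a b : Fin 4) : kadd a b = kadd b a := by revert a b; decide
theorem kadd_assoc (a b c : Fin 4) : kadd (kadd a b) c = kadd a (kadd b c) := by revert a b c; decide
theorem kadd_eq_zero_iff (a b : Fin 4) : kadd a b = 0 ↔ a = b := by revert a b; decide
theorem kadd_left_cancel (a b c : Fin 4) : kadd a b = kadd a c ↔ b = c := by revert a b c; decide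

theorem csgn_eq (a b : Fin 4) : csgn (F := F) a b = 1 ∨ csgn (F := F) a b = -1 := by
  unfold csgn
  split_ifs <;> simp

theorem esgn_comm (a b : Fin 4) : esgn (F := F) a b = csgn a b * esgn b a := by
  fin_cases a <;> fin_cases b <;> simp [esgn, csgn]

theorem E_mul_comm (h3 : (3 : F) = 0) (a b : Fin 4) :
    (E a : Matrix (Fin 2) (Fin 2) F) * E b = csgn (F := F) a b • (E b * E a) := by
  rw [E_mul_E h3, E_mul_E h3, smul_smul, ← esgn_comm, kadd_comm]

theorem E_mul_self (h3 : (3 : F) = 0) (a : Fin 4) :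
    (E a : Matrix (Fin 2) (Fin 2) F) * E a = (if a = 0 then (1 : F) else -1) • (1 : Matrix (Fin 2) (Fin 2) F) := by
  rw [E_mul_E h3, kadd_self, E_zero]
  congr 1
  fin_cases a <;> simp [esgn]

theorem E_det (h3 : (3 : F) = 0) (a : Fin 4) : (E a : Matrix (Fin 2) (Fin 2) F).det = 1 := by
  fin_cases a <;> simp [E, A2, B2, Matrix.det_fin_two, Matrix.mul_apply, Fin.sum_univ_two] <;>
    (first | ring1 | linear_combination h3 | linear_combination -h3 | linear_combination (2 : F) * h3 |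
      linear_combination (-2 : F) * h3)

theorem E_trace (a : Fin 4) (ha : a ≠ 0) : (E a : Matrix (Fin 2) (Fin 2) F).trace = 0 := by
  fin_cases a
  · exact absurd rfl ha
  all_goals simp [E, A2, B2, Matrix.trace, Fin.sum_univ_two, Matrix.mul_apply]

theorem E_ne_zero (a : Fin 4) : (E a : Matrix (Fin 2) (Fin 2) F) ≠ 0 := by
  intro h
  fin_cases a
  · have := congrFun (congrFun h 0) 0
    simp [E] at this
  · have := congrFun (congrFun h 0) 1
    simp [E, A2] at this
  · have := congrFun (congrFun h 0) 0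
    simp [E, B2] at this
  · have := congrFun (congrFun h 0) 0
    simp [E, A2, B2, Matrix.mul_apply, Fin.sum_univ_two] at this

/-- `mᵀ G m = det m • G` for an alternating `2 × 2` matrix `G` -/
theorem transpose_mul_alt (G m : Matrix (Fin 2) (Fin 2) F) (hG0 : G 0 0 = 0) (hG1 : G 1 1 = 0) (hG : G 1 0 = -G 0 1) :
    mᵀ * G * m = m.det • G := by
  ext i j
  fin_cases i <;> fin_cases j <;>
    simp [Matrix.mul_apply, Fin.sum_univ_two, Matrix.det_fin_two, hG0, hG1, hG] <;> ring

theorem E_transpose_mul (h3 : (3 : F) = 0) (G : Matrix (Fin 2) (Fin 2) F) (hG0 : G 0 0 = 0) (hG1 : G 1 1 = 0)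
    (hG : G 1 0 = -G 0 1) (a : Fin 4) : (E a : Matrix (Fin 2) (Fin 2) F)ᵀ * G * E a = G := by
  rw [transpose_mul_alt G _ hG0 hG1 hG, E_det h3, one_smul]

/-! ### `Q8set` -/

theorem mem_Q8set_iff (m : Matrix (Fin 2) (Fin 2) F) :
    m ∈ Q8set ↔ ∃ (s : F) (a : Fin 4), (s = 1 ∨ s = -1) ∧ m = s • E a := by
  constructor
  · rintro ⟨a, h | h⟩
    · exact ⟨1, a, Or.inl rfl, by rw [h, one_smul]⟩
    · exact ⟨-1, a, Or.inr rfl, by rw [h, neg_smul, one_smul]⟩
  · rintro ⟨s, a, hs | hs, rfl⟩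
    · exact ⟨a, Or.inl (by rw [hs, one_smul])⟩
    · exact ⟨a, Or.inr (by rw [hs, neg_smul, one_smul])⟩

theorem E_mem_Q8set (a : Fin 4) : (E a : Matrix (Fin 2) (Fin 2) F) ∈ Q8set := ⟨a, Or.inl rfl⟩

theorem one_mem_Q8set : (1 : Matrix (Fin 2) (Fin 2) F) ∈ Q8set := ⟨0, Or.inl rfl⟩

theorem neg_mem_Q8set {m : Matrix (Fin 2) (Fin 2) F} (hm : m ∈ Q8set) : -m ∈ Q8set := by
  obtain ⟨a, h | h⟩ := hm
  · exact ⟨a, Or.inr (by rw [h])⟩
  · exact ⟨a, Or.inl (by rw [h, neg_neg])⟩

theorem mul_mem_Q8set (h3 : (3 : F) = 0) {m m' : Matrix (Fin 2) (Fin 2) F} (hm : m ∈ Q8set) (hm' : m' ∈ Q8set) :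
    m * m' ∈ Q8set := by
  rw [mem_Q8set_iff] at hm hm' ⊢
  obtain ⟨s, a, hs, rfl⟩ := hm
  obtain ⟨s', a', hs', rfl⟩ := hm'
  refine ⟨s * s' * esgn a a', kadd a a', ?_, ?_⟩
  · rcases hs with rfl | rfl <;> rcases hs' with rfl | rfl <;> rcases esgn_eq (F := F) a a' with h | h <;>
      rw [h] <;> simp
  · rw [Matrix.smul_mul, Matrix.mul_smul, E_mul_E h3, smul_smul, smul_smul]

theorem Q8set_ne_zero {m : Matrix (Fin 2) (Fin 2) F} (hm : m ∈ Q8set) : m ≠ 0 := by
  obtain ⟨a, h | h⟩ := hm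
  · rw [h]; exact E_ne_zero a
  · rw [h, neg_ne_zero]; exact E_ne_zero a

theorem det_of_mem_Q8set (h3 : (3 : F) = 0) {m : Matrix (Fin 2) (Fin 2) F} (hm : m ∈ Q8set) : m.det = 1 := by
  obtain ⟨a, h | h⟩ := hm
  · rw [h, E_det h3]
  · rw [h, Matrix.det_neg, E_det h3]; simp

theorem mem_Q8set_of_det_trace [Fintype F] (hq : Fintype.card F = 3) (m : Matrix (Fin 2) (Fin 2) F)
    (hdet : m.det = 1) (htr : m.trace = 0) : m ∈ Q8set := by
  have h3 := three_eq_zero hq
  have hne := one_ne_neg_one h3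
  have hm : m = !![m 0 0, m 0 1; m 1 0, m 1 1] := Matrix.eta_fin_two m
  have hd : m 1 1 = - m 0 0 := by
    have : m 0 0 + m 1 1 = 0 := by simpa [Matrix.trace, Fin.sum_univ_two] using htr
    linear_combination this
  rw [Matrix.det_fin_two, hd] at hdet
  have key : ∀ a b c : F, (a = 0 ∨ a = 1 ∨ a = -1) → (b = 0 ∨ b = 1 ∨ b = -1) → (c = 0 ∨ c = 1 ∨ c = -1) →
      a * -a - b * c = 1 → (a = 0 ∧ b = 1 ∧ c = -1) ∨ (a = 0 ∧ b = -1 ∧ c = 1) ∨ (a = 1 ∧ b = 1 ∧ c = 1) ∨
        (a = 1 ∧ b = -1 ∧ c = -1) ∨ (a = -1 ∧ b = 1 ∧ c = 1) ∨ (a = -1 ∧ b = -1 ∧ c = -1) := by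
    intro a b c ha hb hc h
    have h10 : (1 : F) ≠ 0 := one_ne_zero
    have hn10 : (-1 : F) ≠ 0 := by simp
    have h2 : (2 : F) ≠ 0 := two_ne_zero' h3
    rcases ha with rfl | rfl | rfl <;> rcases hb with rfl | rfl | rfl <;> rcases hc with rfl | rfl | rfl <;>
      first
      | (exfalso; apply h10; linear_combination -h)
      | (exfalso; apply h10; linear_combination h)
      | (exfalso; apply h2; linear_combination -h)
      | (exfalso; apply h2; linear_combination h)
      | (exfalso; apply h10; linear_combination -h - h3)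
      | (exfalso; apply h10; linear_combination h + h3)
      | (exfalso; apply h10; linear_combination -h + h3)
      | (exfalso; apply h10; linear_combination h - h3)
      | simp
  have hE3 : (E 3 : Matrix (Fin 2) (Fin 2) F) = !![1, -1; -1, -1] := by
    ext i j
    fin_cases i <;> fin_cases j <;> simp [E, A2, B2, Matrix.mul_apply, Fin.sum_univ_two]
  rcases key (m 0 0) (m 0 1) (m 1 0) (eq_zero_or_one_or_neg_one hq _) (eq_zero_or_one_or_neg_one hq _)
    (eq_zero_or_one_or_neg_one hq _) hdet with ⟨h0, h1, h2⟩ | ⟨h0, h1, h2⟩ | ⟨h0, h1, h2⟩ | ⟨h0, h1, h2⟩ |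
    ⟨h0, h1, h2⟩ | ⟨h0, h1, h2⟩
  · refine ⟨1, Or.inl ?_⟩
    rw [hm, hd, h0, h1, h2]; simp [E, A2]
  · refine ⟨1, Or.inr ?_⟩
    rw [hm, hd, h0, h1, h2]; simp [E, A2]
  · refine ⟨2, Or.inl ?_⟩
    rw [hm, hd, h0, h1, h2]; simp [E, B2]
  · refine ⟨3, Or.inl ?_⟩
    rw [hm, hd, h0, h1, h2, hE3]
  · refine ⟨3, Or.inr ?_⟩
    rw [hm, hd, h0, h1, h2, hE3]; simp
  · refine ⟨2, Or.inr ?_⟩
    rw [hm, hd, h0, h1, h2]; simp [E, B2]

theorem conj_mem_Q8set [Fintype F] (hq : Fintype.card F = 3) (a : GL (Fin 2) F) {m : Matrix (Fin 2) (Fin 2) F}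
    (hm : m ∈ Q8set) :
    (a : Matrix (Fin 2) (Fin 2) F) * m * ((a⁻¹ : GL (Fin 2) F) : Matrix (Fin 2) (Fin 2) F) ∈ Q8set := by
  have h3 := three_eq_zero hq
  have haa : (a : Matrix (Fin 2) (Fin 2) F) * ((a⁻¹ : GL (Fin 2) F) : Matrix (Fin 2) (Fin 2) F) = 1 := by
    rw [← Units.val_mul, mul_inv_cancel, Units.val_one]
  by_cases h1 : m = 1
  · rw [h1, Matrix.mul_one, haa]; exact one_mem_Q8set
  by_cases h2 : m = -1
  · rw [h2, Matrix.mul_neg, Matrix.mul_one, Matrix.neg_mul, haa]; exact neg_mem_Q8set one_mem_Q8set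
  apply mem_Q8set_of_det_trace hq
  · rw [Matrix.det_units_conj]; exact det_of_mem_Q8set h3 hm
  · rw [Matrix.trace_units_conj]
    obtain ⟨b, h | h⟩ := hm
    · have hb : b ≠ 0 := by
        rintro rfl
        exact h1 (by rw [h, E_zero])
      rw [h, E_trace b hb]
    · have hb : b ≠ 0 := by
        rintro rfl
        exact h2 (by rw [h, E_zero])
      rw [h, Matrix.trace_neg, E_trace b hb, neg_zero]

/-- the four matrices `E a` span `M_2(F)` (`2 ≠ 0`) -/
theorem span_E (h3 : (3 : F) = 0) : Submodule.span F (Set.range (E : Fin 4 → Matrix (Fin 2) (Fin 2) F)) = ⊤ := by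
  rw [eq_top_iff]
  intro m _
  have hm : m = ((m 0 0 + m 1 1) * (-1 : F)) • E 0 + ((m 0 1 - m 1 0) * (-1 : F)) • E 1
      + ((m 0 0 - m 1 1) + (m 0 1 + m 1 0)) • E 2 + ((m 0 0 - m 1 1) - (m 0 1 + m 1 0)) • E 3 := by
    ext i j
    fin_cases i <;> fin_cases j <;>
    · simp [E, A2, B2, Matrix.mul_apply, Fin.sum_univ_two]
      first
        | ring1
        | linear_combination (m 0 0) * h3
        | linear_combination (-(m 0 0)) * h3
        | linear_combination (m 0 1) * h3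
        | linear_combination (-(m 0 1)) * h3
        | linear_combination (m 1 0) * h3
        | linear_combination (-(m 1 0)) * h3
        | linear_combination (m 1 1) * h3
        | linear_combination (-(m 1 1)) * h3
  rw [hm]
  refine Submodule.add_mem _ (Submodule.add_mem _ (Submodule.add_mem _ ?_ ?_) ?_) ?_ <;>
    exact Submodule.smul_mem _ _ (Submodule.subset_span ⟨_, rfl⟩)


end Cfsg.Agent.Lib.Helper41.TW3
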