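import Mathlib
import Cfsg.Prelude.Def_GeometricClasses
import Cfsg.Agent.Lib.Helper41.TW3.Kit

/-!
# Project BHRSP, module [E-SP8-TW3] (sub-sheet helper41): the code form `s • PE v` of the elements of `R8set`
-/

set_option autoImplicit false

namespace Cfsg.Agent.Lib.Helper41.TW3

open Cfsg Cfsg.Geo Cfsg.Agent.Lib.Helper15.AschSlotNorm Cfsg.Agent.Lib.Helper15.AschUPure
open scoped MatrixGroups Matrix

variable {F : Type*} [Field F]

theorem PE_zero : (PE (fun _ => 0) : Matrix I8 I8 F) = 1 := by
  unfold PE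
  simp only [E_zero]
  exact PT_one

theorem PE_mul_PE (h3 : (3 : F) = 0) (v w : Fin 3 → Fin 4) :
    (PE v : Matrix I8 I8 F) * PE w = (∏ i, esgn (F := F) (v i) (w i)) • PE (fun i => kadd (v i) (w i)) := by
  unfold PE
  rw [PT_mul, ← PT_smul]
  congr 1
  funext i
  exact E_mul_E h3 _ _

theorem PE_mul_comm (h3 : (3 : F) = 0) (v w : Fin 3 → Fin 4) :
    (PE v : Matrix I8 I8 F) * PE w = (∏ i, csgn (F := F) (v i) (w i)) • (PE w * PE v) := by
  unfold PE
  rw [PT_mul, PT_mul, ← PT_smul]
  congr 1
  funext i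
  exact E_mul_comm h3 _ _

theorem PE_ne_zero (v : Fin 3 → Fin 4) : (PE v : Matrix I8 I8 F) ≠ 0 :=
  PT_ne_zero (fun i => E_ne_zero (v i))

theorem PE_trace_of_ne {v : Fin 3 → Fin 4} (hv : v ≠ fun _ => 0) : (PE v : Matrix I8 I8 F).trace = 0 := by
  unfold PE
  rw [PT_trace]
  have : ∃ i, v i ≠ 0 := by
    by_contra hcon
    push Not at hcon
    exact hv (funext hcon)
  obtain ⟨i, hi⟩ := this
  exact Finset.prod_eq_zero (Finset.mem_univ i) (E_trace (v i) hi)

theorem trace_one_I8 (h3 : (3 : F) = 0) : (1 : Matrix I8 I8 F).trace = -1 := by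
  rw [Matrix.trace_one]
  have : Fintype.card I8 = 8 := by
    simp [I8]
  rw [this]
  push_cast
  linear_combination (3 : F) * h3

theorem mem_R8set_iff (M : Matrix I8 I8 F) :
    M ∈ R8set ↔ ∃ (s : F) (v : Fin 3 → Fin 4), (s = 1 ∨ s = -1) ∧ M = s • PE v := by
  constructor
  · rintro ⟨q, hq, rfl⟩
    have h : ∀ i, ∃ (s : F) (a : Fin 4), (s = 1 ∨ s = -1) ∧ q i = s • E a := fun i => (mem_Q8set_iff _).mp (hq i)
    choose s a hs hqa using h
    refine ⟨∏ i, s i, a, ?_, ?_⟩
    · have : ∀ (t : Finset (Fin 3)), (∏ i ∈ t, s i = 1 ∨ ∏ i ∈ t, s i = -1) := by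
        intro t
        induction t using Finset.induction_on with
        | empty => left; simp
        | insert i t hi ih =>
          rw [Finset.prod_insert hi]
          rcases hs i with h | h <;> rcases ih with h' | h' <;> rw [h, h'] <;> simp
      exact this Finset.univ
    · unfold PE
      rw [← PT_smul]
      congr 1
      funext i
      exact hqa i
  · rintro ⟨s, v, hs, rfl⟩
    refine ⟨Function.update (fun i => E (v i)) 0 (s • E (v 0)), ?_, ?_⟩
    · intro i
      by_cases hi : i = 0
      · subst hi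
        rw [Function.update_self, mem_Q8set_iff]
        exact ⟨s, v 0, hs, rfl⟩
      · rw [Function.update_of_ne hi]
        exact E_mem_Q8set _
    · rw [PT_update_smul]
      unfold PE
      congr 2
      funext i
      by_cases hi : i = 0
      · subst hi; rw [Function.update_self]
      · rw [Function.update_of_ne hi]

/-- uniqueness of the code -/
theorem code_unique (h3 : (3 : F) = 0) {s s' : F} {v v' : Fin 3 → Fin 4} (hs' : s' ≠ 0)
    (h : s • (PE v : Matrix I8 I8 F) = s' • PE v') : s = s' ∧ v = v' := by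
  have hv : v = v' := by
    by_contra hne
    -- multiply by `PE v'` on the left and take traces
    have h1 := congrArg (fun M => (PE v' * M).trace) h
    simp only [Matrix.mul_smul, Matrix.trace_smul, smul_eq_mul] at h1
    rw [PE_mul_PE h3, PE_mul_PE h3, Matrix.trace_smul, Matrix.trace_smul] at h1
    have hk : (fun i => kadd (v' i) (v i)) ≠ fun _ => 0 := by
      intro hk
      apply hne
      funext i
      have := congrFun hk i
      exact ((kadd_eq_zero_iff _ _).mp this).symm
    have hk' : (fun i => kadd (v' i) (v' i)) = fun _ => 0 := by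
      funext i; exact kadd_self _
    rw [PE_trace_of_ne hk, hk', PE_zero, trace_one_I8 h3] at h1
    simp only [smul_eq_mul, mul_zero] at h1
    have hprod : (∏ i, esgn (F := F) (v' i) (v' i)) ≠ 0 := by
      refine Finset.prod_ne_zero_iff.mpr (fun i _ => ?_)
      rcases esgn_eq (F := F) (v' i) (v' i) with h | h <;> rw [h] <;> simp
    have : s' * ((∏ i, esgn (F := F) (v' i) (v' i)) * -1) ≠ 0 :=
      mul_ne_zero hs' (mul_ne_zero hprod (by simp))
    exact this h1.symm
  subst hv
  refine ⟨?_, rfl⟩
  have h2 : (s - s') • (PE v : Matrix I8 I8 F) = 0 := by rw [sub_smul, h, sub_self]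
  rcases smul_eq_zero.mp h2 with h0 | h0
  · exact sub_eq_zero.mp h0
  · exact absurd h0 (PE_ne_zero v)

end Cfsg.Agent.Lib.Helper41.TW3
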