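import Mathlib
import Cfsg.Prelude.Def_GeometricClasses
import Cfsg.Agent.Lib.Helper41.TW3.Code

/-!
# Project BHRSP, module [E-SP8-TW3] (sub-sheet helper41), leaf [R8-GROUP]: `R8set` is a group, `R0` is its group of units
-/

set_option autoImplicit false

namespace Cfsg.Agent.Lib.Helper41.TW3

open Cfsg Cfsg.Geo Cfsg.Agent.Lib.Helper15.AschSlotNorm Cfsg.Agent.Lib.Helper15.AschUPure
open scoped MatrixGroups Matrix

variable {F : Type*} [Field F]

theorem one_mem_R8set : (1 : Matrix I8 I8 F) ∈ R8set :=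
  ⟨fun _ => 1, fun _ => one_mem_Q8set, PT_one.symm⟩

theorem neg_one_mem_R8set : (-1 : Matrix I8 I8 F) ∈ R8set := by
  rw [mem_R8set_iff]
  exact ⟨-1, fun _ => 0, Or.inr rfl, by rw [PE_zero, neg_smul, one_smul]⟩

theorem mul_mem_R8set (h3 : (3 : F) = 0) {M M' : Matrix I8 I8 F} (hM : M ∈ R8set) (hM' : M' ∈ R8set) :
    M * M' ∈ R8set := by
  obtain ⟨q, hq, rfl⟩ := hM
  obtain ⟨q', hq', rfl⟩ := hM'
  exact ⟨fun i => q i * q' i, fun i => mul_mem_Q8set h3 (hq i) (hq' i), PT_mul q q'⟩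

theorem neg_mem_R8set {M : Matrix I8 I8 F} (hM : M ∈ R8set) : -M ∈ R8set := by
  rw [mem_R8set_iff] at hM ⊢
  obtain ⟨s, v, hs, rfl⟩ := hM
  refine ⟨-s, v, ?_, by rw [neg_smul]⟩
  rcases hs with h | h
  · right; rw [h]
  · left; rw [h, neg_neg]

/-- the square of an element of `R8set` is `±1` -/
theorem sq_of_mem_R8set (h3 : (3 : F) = 0) {M : Matrix I8 I8 F} (hM : M ∈ R8set) : M * M = 1 ∨ M * M = -1 := by
  rw [mem_R8set_iff] at hM
  obtain ⟨s, v, hs, rfl⟩ := hM
  have hss : s * s = 1 := by rcases hs with h | h <;> rw [h] <;> simp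
  rw [Matrix.smul_mul, Matrix.mul_smul, smul_smul, hss, one_smul, PE_mul_PE h3]
  have hk : (fun i => kadd (v i) (v i)) = fun _ => 0 := by funext i; exact kadd_self _
  rw [hk, PE_zero]
  have : ∀ (t : Finset (Fin 3)), (∏ i ∈ t, esgn (F := F) (v i) (v i) = 1 ∨ ∏ i ∈ t, esgn (F := F) (v i) (v i) = -1) := by
    intro t
    induction t using Finset.induction_on with
    | empty => left; simp
    | insert i t hi ih =>
      rw [Finset.prod_insert hi]
      rcases esgn_eq (F := F) (v i) (v i) with h | h <;> rcases ih with h' | h' <;> rw [h, h'] <;> simp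
  rcases this Finset.univ with h | h
  · left; rw [h, one_smul]
  · right; rw [h, neg_smul, one_smul]

theorem pow_four_of_mem_R8set (h3 : (3 : F) = 0) {M : Matrix I8 I8 F} (hM : M ∈ R8set) : M ^ 4 = 1 := by
  have h4 : M ^ 4 = (M * M) * (M * M) := by
    rw [pow_succ, pow_succ, pow_succ, pow_one, mul_assoc]
  rw [h4]
  rcases sq_of_mem_R8set h3 hM with h | h <;> rw [h] <;> simp

/-- every element of `R8set` has an inverse in `R8set` -/
theorem exists_inv_of_mem_R8set (h3 : (3 : F) = 0) {M : Matrix I8 I8 F} (hM : M ∈ R8set) :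
    ∃ M' ∈ R8set, M * M' = 1 ∧ M' * M = 1 := by
  rcases sq_of_mem_R8set h3 hM with h | h
  · exact ⟨M, hM, h, h⟩
  · exact ⟨-M, neg_mem_R8set hM, by rw [Matrix.mul_neg, h, neg_neg], by rw [Matrix.neg_mul, h, neg_neg]⟩

/-- the unit of `GL I8 F` with a given matrix in `R8set` -/
theorem exists_unit_of_mem_R8set (h3 : (3 : F) = 0) {M : Matrix I8 I8 F} (hM : M ∈ R8set) :
    ∃ g : GL I8 F, (g : Matrix I8 I8 F) = M := by
  obtain ⟨M', _, h1, h2⟩ := exists_inv_of_mem_R8set h3 hM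
  exact ⟨⟨M, M', h1, h2⟩, rfl⟩

theorem inv_mem_R8set (h3 : (3 : F) = 0) (g : GL I8 F) (hg : (g : Matrix I8 I8 F) ∈ R8set) :
    ((g⁻¹ : GL I8 F) : Matrix I8 I8 F) ∈ R8set := by
  obtain ⟨M', hM', h1, _⟩ := exists_inv_of_mem_R8set h3 hg
  have : ((g⁻¹ : GL I8 F) : Matrix I8 I8 F) = M' := by
    rw [Matrix.coe_units_inv]
    exact Matrix.inv_eq_right_inv h1
  rw [this]
  exact hM'

/-- [R8-GROUP] -/
theorem mem_R0_iff (h3 : (3 : F) = 0) (g : GL I8 F) : g ∈ (R0 : Subgroup (GL I8 F)) ↔ (g : Matrix I8 I8 F) ∈ R8set := by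
  constructor
  · intro hg
    unfold R0 at hg
    induction hg using Subgroup.closure_induction with
    | mem x hx => exact hx
    | one => rw [Units.val_one]; exact one_mem_R8set
    | mul x y _ _ hx hy => rw [Units.val_mul]; exact mul_mem_R8set h3 hx hy
    | inv x _ hx => exact inv_mem_R8set h3 x hx
  · intro hg
    exact Subgroup.subset_closure hg

end Cfsg.Agent.Lib.Helper41.TW3
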